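import Mathlib

/-!
Frobenius is nilpotent on Witt vectors of a nil ideal of bounded exponent (`p` nilpotent), and lifting
of maps commuting with semilinear Frobenius structures.
-/

set_option autoImplicit false
universe u v w z

namespace Groth.Agent.WittLift

variable {p : ℕ} [hp : Fact p.Prime] {S : Type u} [CommRing S]

theorem constantCoeff_frobeniusPolyAux (n : ℕ) :
    MvPolynomial.constantCoeff (WittVector.frobeniusPolyAux p n) = 0 := by
  have h := WittVector.coeff_frobenius (p := p) (R := ℤ) 0 n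
  rw [map_zero, WittVector.zero_coeff] at h
  have h0 : (0 : WittVector p ℤ).coeff = fun _ => 0 := funext fun i => WittVector.zero_coeff p ℤ i
  rw [h0, MvPolynomial.aeval_zero', Algebra.algebraMap_self, RingHom.id_apply, WittVector.frobeniusPoly, map_add,
    map_mul, map_pow, MvPolynomial.constantCoeff_X, zero_pow hp.out.ne_zero, zero_add, MvPolynomial.constantCoeff_C] at h
  exact (mul_eq_zero.1 h.symm).resolve_left (Int.natCast_ne_zero.2 hp.out.ne_zero)

theorem aeval_mem {σ : Type*} (I : Ideal S) (x : σ → S) (hx : ∀ i, x i ∈ I) (P : MvPolynomial σ ℤ)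
    (hP : MvPolynomial.constantCoeff P = 0) : MvPolynomial.aeval x P ∈ I := by
  rw [← Ideal.Quotient.eq_zero_iff_mem, ← Ideal.Quotient.mkₐ_eq_mk ℤ, ← AlgHom.comp_apply, MvPolynomial.comp_aeval]
  have : (fun i => Ideal.Quotient.mkₐ ℤ I (x i)) = fun _ => 0 :=
    funext fun i => Ideal.Quotient.eq_zero_iff_mem.2 (hx i)
  rw [this, MvPolynomial.aeval_zero', hP, map_zero]

theorem coeff_frobenius_sub (I : Ideal S) (x : WittVector p S) (hx : ∀ i, x.coeff i ∈ I) (n : ℕ) :
    ∃ y ∈ I, (WittVector.frobenius x).coeff n = x.coeff n ^ p + (p : S) * y := by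
  refine ⟨MvPolynomial.aeval x.coeff (WittVector.frobeniusPolyAux p n),
    aeval_mem I _ hx _ (constantCoeff_frobeniusPolyAux n), ?_⟩
  rw [WittVector.coeff_frobenius, WittVector.frobeniusPoly, map_add, map_mul, map_pow, MvPolynomial.aeval_X]
  simp

/-- Some iterate of Frobenius kills every Witt vector with components of bounded nilpotency. -/
theorem exists_iterate_eq_zero (hpn : IsNilpotent (p : S)) (N : ℕ) :
    ∃ n, ∀ x : WittVector p S, (∀ i, x.coeff i ^ N = 0) → (WittVector.frobenius)^[n] x = 0 := by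
  obtain ⟨e, he⟩ := hpn
  set P := Ideal.span {(p : S)} with hP
  have hmodp : ∀ (x : WittVector p S) (k i : ℕ),
      Ideal.Quotient.mk P (((WittVector.frobenius)^[k] x).coeff i) = Ideal.Quotient.mk P (x.coeff i) ^ p ^ k := by
    intro x k
    induction k with
    | zero => intro i; simp
    | succ k ih =>
      intro i
      rw [Function.iterate_succ_apply']
      obtain ⟨y, -, hy⟩ := coeff_frobenius_sub ⊤ ((WittVector.frobenius)^[k] x) (fun _ => trivial) i
      rw [hy, map_add, map_mul, map_pow, ih, Ideal.Quotient.eq_zero_iff_mem.2 (Ideal.mem_span_singleton_self _),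
        zero_mul, add_zero, ← pow_mul, ← pow_succ]
  have hstep : ∀ (x : WittVector p S) (j : ℕ), 1 ≤ j → (∀ i, x.coeff i ∈ P ^ j) →
      ∀ i, (WittVector.frobenius x).coeff i ∈ P ^ (j + 1) := by
    intro x j hj hx i
    obtain ⟨y, hy, h⟩ := coeff_frobenius_sub (P ^ j) x hx i
    rw [h]
    refine add_mem ?_ ?_
    · have h2 : x.coeff i ^ p ∈ (P ^ j) ^ 2 :=
        Ideal.pow_le_pow_right hp.out.two_le (Ideal.pow_mem_pow (hx i) p)
      rw [← pow_mul] at h2
      exact Ideal.pow_le_pow_right (by omega) h2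
    · rw [pow_succ', hP]
      exact Ideal.mul_mem_mul (Ideal.mem_span_singleton_self _) hy
  refine ⟨e + N, fun x hx => ?_⟩
  have h1 : ∀ i, ((WittVector.frobenius)^[N] x).coeff i ∈ P ^ 1 := by
    intro i
    rw [pow_one, ← Ideal.Quotient.eq_zero_iff_mem, hmodp,
      ← Nat.sub_add_cancel (Nat.lt_pow_self hp.out.one_lt).le, pow_add, ← map_pow _ _ N, hx, map_zero, mul_zero]
  have h2 : ∀ j i, ((WittVector.frobenius)^[j + N] x).coeff i ∈ P ^ (j + 1) := by
    intro j
    induction j with
    | zero => rw [zero_add, zero_add]; exact h1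
    | succ j ih =>
      intro i
      rw [show j + 1 + N = j + N + 1 by omega, Function.iterate_succ_apply']
      exact hstep _ (j + 1) (by omega) ih i
  refine WittVector.ext fun i => ?_
  have h3 := Ideal.pow_le_pow_right (Nat.le_succ e) (h2 e i)
  rw [hP, Ideal.span_singleton_pow, he, Ideal.span_singleton_zero, Ideal.mem_bot] at h3
  rw [h3, WittVector.zero_coeff]

section Lift

variable {W : Type u} [CommRing W] {σ : W →+* W} {P₁ : Type v} [AddCommGroup P₁] [Module W P₁]
  {P₂ : Type w} [AddCommGroup P₂] [Module W P₂] {ι : Type z}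

theorem semilinear_mem {F : P₂ →ₛₗ[σ] P₂} (I : Ideal W) (y : P₂) (hy : y ∈ I • (⊤ : Submodule W P₂)) :
    F y ∈ I.map σ • (⊤ : Submodule W P₂) := by
  refine Submodule.smul_induction_on hy (fun a ha v _ => ?_) (fun x y hx hy => ?_)
  · rw [LinearMap.map_smulₛₗ]
    exact Submodule.smul_mem_smul (Ideal.mem_map_of_mem σ ha) trivial
  · rw [map_add]; exact add_mem hx hy

theorem constr_mem (e : Module.Basis ι W P₁) (I : Ideal W) (f : ι → P₂) (hf : ∀ i, f i ∈ I • (⊤ : Submodule W P₂))
    (x : P₁) : e.constr ℕ f x ∈ I • (⊤ : Submodule W P₂) := by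
  rw [Module.Basis.constr_apply]
  exact Submodule.sum_mem _ fun i _ => Submodule.smul_mem _ _ (hf i)

/-- Existence of a lift commuting with the semilinear maps, and uniqueness inside `J`. -/
theorem exists_lift [Finite ι] (b : Module.Basis ι W P₁) (F₁ : P₁ →ₛₗ[σ] P₁) (F₂ : P₂ →ₛₗ[σ] P₂)
    (hF₁ : LinearIndependent W (fun i => F₁ (b i)) ∧ Submodule.span W (Set.range fun i => F₁ (b i)) = ⊤)
    (c : Ideal W) (hcσ : ∀ x ∈ c, σ x ∈ c) (n : ℕ) (hn : ∀ x ∈ c, σ^[n] x = 0)
    (α₀ : P₁ →ₗ[W] P₂) (h₀ : ∀ x, F₂ (α₀ x) - α₀ (F₁ x) ∈ c • (⊤ : Submodule W P₂)) :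
    ∃ α : P₁ →ₗ[W] P₂, ((∀ x, α x - α₀ x ∈ c • (⊤ : Submodule W P₂)) ∧ ∀ x, F₂ (α x) = α (F₁ x)) ∧
      ∀ β : P₁ →ₗ[W] P₂, ((∀ x, β x - α₀ x ∈ c • (⊤ : Submodule W P₂)) ∧ ∀ x, F₂ (β x) = β (F₁ x)) → β = α := by
  let e : Module.Basis ι W P₁ := Module.Basis.mk hF₁.1 hF₁.2.ge
  have he : ∀ i, e i = F₁ (b i) := fun i => Module.Basis.mk_apply _ _ i
  let T : (P₁ →ₗ[W] P₂) → (P₁ →ₗ[W] P₂) := fun α => e.constr ℕ fun i => F₂ (α (b i))
  have hTsub : ∀ α β x, T α x - T β x = e.constr ℕ (fun i => F₂ ((α - β) (b i))) x := by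
    intro α β x
    rw [show (fun i => F₂ ((α - β) (b i))) = (fun i => F₂ (α (b i))) - fun i => F₂ (β (b i)) from
      funext fun i => by simp, map_sub]
    rfl
  have hT : ∀ α β (I : Ideal W), (∀ x, α x - β x ∈ I • (⊤ : Submodule W P₂)) →
      ∀ x, T α x - T β x ∈ I.map σ • (⊤ : Submodule W P₂) := fun α β I h x => by
    rw [hTsub]
    exact constr_mem e _ _ (fun i => semilinear_mem I _ (h (b i))) x
  have hfix : ∀ α, (∀ x, F₂ (α x) = α (F₁ x)) ↔ T α = α := by
    intro α
    constructor
    · intro h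
      refine e.ext fun i => ?_
      rw [show T α (e i) = F₂ (α (b i)) from Module.Basis.constr_basis e ℕ _ i, h, he]
    · intro h x
      have hi : ∀ i, F₂ (α (b i)) = α (F₁ (b i)) := fun i => by
        rw [← he]; conv_rhs => rw [← h, show T α (e i) = F₂ (α (b i)) from Module.Basis.constr_basis e ℕ _ i]
      have hx : x ∈ Submodule.span W (Set.range b) := by rw [b.span_eq]; trivial
      induction hx using Submodule.span_induction with
      | mem x hx => obtain ⟨i, rfl⟩ := hx; exact hi i
      | zero => simp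
      | add x y _ _ hx hy => simp only [map_add, hx, hy]
      | smul a x _ hx => simp only [LinearMap.map_smulₛₗ, map_smul, hx]
  let J : ℕ → Ideal W := fun k => (Ideal.map σ)^[k] c
  have hJ : ∀ k, J k ≤ c := by
    intro k
    induction k with
    | zero => exact le_rfl
    | succ k ih =>
      rw [show J (k + 1) = Ideal.map σ (J k) from Function.iterate_succ_apply' _ _ _]
      exact (Ideal.map_mono ih).trans (Ideal.map_le_iff_le_comap.2 hcσ)
  have hJn : J n = ⊥ := by
    have : ∀ k, J k = Ideal.span (σ^[k] '' c) := by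
      intro k
      induction k with
      | zero => simp [J]
      | succ k ih =>
        rw [show J (k + 1) = Ideal.map σ (J k) from Function.iterate_succ_apply' _ _ _, ih, Ideal.map_span,
          ← Set.image_comp, ← Function.iterate_succ']
    rw [this, Ideal.span_eq_bot]
    rintro _ ⟨x, hx, rfl⟩
    exact hn x hx
  have h0 : ∀ x, T α₀ x - α₀ x ∈ c • (⊤ : Submodule W P₂) := fun x => by
    have h : T α₀ - α₀ = e.constr ℕ fun i => F₂ (α₀ (b i)) - α₀ (F₁ (b i)) := by
      refine e.ext fun i => ?_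
      rw [LinearMap.sub_apply, show T α₀ (e i) = F₂ (α₀ (b i)) from Module.Basis.constr_basis e ℕ _ i, he,
        ← he, Module.Basis.constr_basis, he]
    rw [← LinearMap.sub_apply, h]
    exact constr_mem e _ _ (fun i => h₀ (b i)) x
  have hiter : ∀ k x, T^[k + 1] α₀ x - T^[k] α₀ x ∈ J k • (⊤ : Submodule W P₂) := by
    intro k
    induction k with
    | zero => exact h0
    | succ k ih =>
      intro x
      rw [show J (k + 1) = Ideal.map σ (J k) from Function.iterate_succ_apply' _ _ _,
        Function.iterate_succ_apply' T (k + 1), Function.iterate_succ_apply' T k]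
      have := hT _ _ _ ih x
      rwa [Function.iterate_succ_apply' T k] at this
  refine ⟨T^[n] α₀, ⟨?_, ?_⟩, ?_⟩
  · have : ∀ k x, T^[k] α₀ x - α₀ x ∈ c • (⊤ : Submodule W P₂) := by
      intro k
      induction k with
      | zero => intro x; simp
      | succ k ih =>
        intro x
        rw [← sub_add_sub_cancel _ (T^[k] α₀ x)]
        exact add_mem (Submodule.smul_mono (hJ k) le_rfl (hiter k x)) (ih x)
    exact this n
  · rw [hfix, ← Function.iterate_succ_apply' T n]
    refine LinearMap.ext fun x => sub_eq_zero.1 ?_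
    have := hiter n x
    rw [hJn, Submodule.bot_smul] at this
    exact (Submodule.mem_bot W).1 this
  · rintro β ⟨hβ, hβfix⟩
    have hα : ∀ k x, β x - T^[k] α₀ x ∈ J k • (⊤ : Submodule W P₂) := by
      intro k
      induction k with
      | zero => exact hβ
      | succ k ih =>
        intro x
        rw [show J (k + 1) = Ideal.map σ (J k) from Function.iterate_succ_apply' _ _ _, Function.iterate_succ_apply']
        have := hT β _ _ ih x
        rwa [(hfix β).1 hβfix] at this
    refine LinearMap.ext fun x => sub_eq_zero.1 ?_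
    have := hα n x
    rw [hJn, Submodule.bot_smul] at this
    exact (Submodule.mem_bot W).1 this

end Lift

end Groth.Agent.WittLift
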